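import Cfsg.Agent.H309.Lim.Norm
import Cfsg.Agent.H539.Lim.Filt
import Cfsg.Agent.H223.Lim.Basic
import Cfsg.Agent.H95.Lim.Local

/-!
# S5242, piece Z (helper486): collections meeting a normal subgroup `C` acting trivially only in the kernel
-/

set_option autoImplicit false

namespace Cfsg.Agent.H486.Lim

open MulAction Cfsg.Agent.H539.Lim
open Cfsg.Agent.H223.Lim (van_two1 van_two2)
open Cfsg.Agent.H95.Lim (van_of_local pset_fixPt)
open Cfsg.Agent.H309.Lim (van_R0)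

universe u v w

section

variable {G : Type u} [Group G] {Ω : Type v} [MulAction G Ω] {D : Type w} [AddCommGroup D]
  [DistribMulAction G D]

/-- only the stabilizers of tuples matter -/
theorem van_congr {V V' : Set (Subgroup G)} (h : ∀ (k : ℕ) (x : Fin (k + 1) → Ω), st G x ∈ V ↔ st G x ∈ V') {n : ℕ}
    (hV : Van G Ω D V n) : Van G Ω D V' n := by
  have hc : ∀ (k : ℕ) (c : (Fin (k + 1) → Ω) → D), IsCoch V' c → IsCoch V c := fun k c hc =>
    ⟨hc.smul, fun x hx => hc.supp x (fun h' => hx ((h k x).2 h'))⟩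
  have hc' : ∀ (k : ℕ) (c : (Fin (k + 1) → Ω) → D), IsCoch V c → IsCoch V' c := fun k c hc =>
    ⟨hc.smul, fun x hx => hc.supp x (fun h' => hx ((h k x).1 h'))⟩
  have hz : ∀ (k : ℕ) (c : (Fin (k + 1) → Ω) → D), IsCoc (G := G) V' c → IsCoc (G := G) V c := fun k c hc x hx =>
    hc x ((h _ x).1 hx)
  match n, hV with
  | 0, hV => exact fun c h1 h2 => hV c (hc _ c h1) (hz _ c h2)
  | n + 1, hV =>
    intro c h1 h2
    obtain ⟨b, hb, hb'⟩ := hV c (hc _ c h1) (hz _ c h2)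
    exact ⟨b, hc' _ b hb, fun x hx => hb' x ((h _ x).2 hx)⟩

/-- nothing to prove -/
theorem van_of_none {V : Set (Subgroup G)} (h : ∀ (k : ℕ) (x : Fin (k + 1) → Ω), st G x ∉ V) (n : ℕ) :
    Van G Ω D V n := by
  match n with
  | 0 => exact fun c h1 _ x => h1.supp x (h _ x)
  | n + 1 =>
    intro c _ _
    exact ⟨fun _ => 0, ⟨fun g x => (smul_zero g).symm, fun _ _ => rfl⟩, fun x hx => absurd hx (h _ x)⟩

theorem cj_le_iff {g : G} {P Q : Subgroup G} : P ≤ cj g Q ↔ cj g⁻¹ P ≤ Q := by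
  constructor
  · rintro h _ ⟨x, hx, rfl⟩
    obtain ⟨y, hy, hyx⟩ := h hx
    have h1 : g * y * g⁻¹ = x := hyx
    change g⁻¹ * x * g⁻¹⁻¹ ∈ Q
    rw [← h1]
    have : g⁻¹ * (g * y * g⁻¹) * g⁻¹⁻¹ = y := by group
    rw [this]; exact hy
  · intro h x hx
    refine ⟨g⁻¹ * x * g⁻¹⁻¹, h ⟨x, hx, rfl⟩, ?_⟩
    change g * (g⁻¹ * x * g⁻¹⁻¹) * g⁻¹ = x
    group

theorem cj_le_iff' {g : G} {P Q : Subgroup G} : cj g P ≤ Q ↔ P ≤ cj g⁻¹ Q := by
  rw [cj_le_iff, inv_inv]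

theorem cj_normal {g : G} {Y : Subgroup G} [hY : Y.Normal] : cj g Y = Y := by
  apply le_antisymm
  · rintro _ ⟨y, hy, rfl⟩
    exact hY.conj_mem y hy g
  · rw [cj_le_iff]
    rintro _ ⟨y, hy, rfl⟩
    exact hY.conj_mem y hy _

theorem card_cj (g : G) (P : Subgroup G) : Nat.card (cj g P) = Nat.card P :=
  Subgroup.card_map_of_injective (MulAut.conj g).injective

theorem pgroup_cj {p : ℕ} {g : G} {P : Subgroup G} (h : IsPGroup p P) : IsPGroup p (cj g P) := h.map _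

/-- the `p`-element needed for the local problem -/
theorem exists_elt {p : ℕ} [Fact p.Prime] [Finite G] {Y C P : Subgroup G} [hYn : Y.Normal] [hCn : C.Normal]
    (hP : IsPGroup p P) (hPC : P ⊓ C ≤ Y) (hu : ∃ u ∈ C, (∃ k : ℕ, u ^ (p ^ k) = 1) ∧ u ∉ Y) :
    ∃ s ∈ C, (∃ k : ℕ, s ^ (p ^ k) = 1) ∧ s ∉ P ∧ s ∈ Nz P := by
  obtain ⟨S, hPS⟩ := hP.exists_le_sylow
  obtain ⟨u, huC, ⟨k, huk⟩, huY⟩ := hu
  -- `S ⊓ C` is not contained in `P`
  have hSC : ¬ (S : Subgroup G) ⊓ C ≤ P := by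
    intro h
    have hzp : IsPGroup p (Subgroup.zpowers u) := by
      rintro ⟨x, i, rfl⟩
      refine ⟨k, Subtype.ext ?_⟩
      change (u ^ i) ^ p ^ k = 1
      rw [← zpow_natCast, ← zpow_mul, mul_comm, zpow_mul, zpow_natCast, huk, one_zpow]
    obtain ⟨S', hS'⟩ := hzp.exists_le_sylow
    obtain ⟨g, hg⟩ := MulAction.exists_smul_eq G S' S
    have h1 : g * u * g⁻¹ ∈ (S : Subgroup G) := by
      rw [← hg]
      exact ⟨u, hS' (Subgroup.mem_zpowers u), rfl⟩
    have h2 : g * u * g⁻¹ ∈ C := hCn.conj_mem u huC g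
    have h3 : g * u * g⁻¹ ∈ Y := hPC ⟨h ⟨h1, h2⟩, h2⟩
    have h4 := hYn.conj_mem _ h3 g⁻¹
    apply huY
    have h5 : g⁻¹ * (g * u * g⁻¹) * g⁻¹⁻¹ = u := by group
    rwa [h5] at h4
  set K : Subgroup G := P ⊔ ((S : Subgroup G) ⊓ C) with hK
  have hKS : K ≤ S := sup_le hPS inf_le_left
  have hKp : IsPGroup p K := S.2.to_le hKS
  have hlt : P.subgroupOf K < ⊤ := by
    rw [lt_top_iff_ne_top]
    intro h
    rw [Subgroup.subgroupOf_eq_top] at h
    exact hSC (le_sup_right.trans h)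
  have hnil : Group.IsNilpotent K := hKp.isNilpotent
  obtain ⟨w, hw, hwP⟩ := SetLike.exists_of_lt (Group.normalizerCondition_of_isNilpotent (P.subgroupOf K) hlt)
  have hwN : (w : G) ∈ Nz P := by
    rw [Subgroup.mem_normalizer_iff] at hw ⊢
    have hle : P ≤ K := le_sup_left
    intro x
    constructor
    · intro hx
      exact Subgroup.mem_subgroupOf.1 ((hw ⟨x, hle hx⟩).1 (Subgroup.mem_subgroupOf.2 hx))
    · intro hx
      have h1 : x ∈ K := by
        have h2 := K.mul_mem (K.mul_mem (K.inv_mem w.2) (hle hx)) w.2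
        have h3 : (w : G)⁻¹ * (w * x * (w : G)⁻¹) * w = x := by group
        rwa [h3] at h2
      exact Subgroup.mem_subgroupOf.1 ((hw ⟨x, h1⟩).2 (Subgroup.mem_subgroupOf.2 hx))
  have hwK : (w : G) ∈ P ⊔ C := (sup_le_sup_left inf_le_right P : K ≤ P ⊔ C) w.2
  obtain ⟨π, hπ, s, hs, hπs⟩ := Subgroup.mem_sup_of_normal_right.1 hwK
  have hs' : s = π⁻¹ * w := by rw [← hπs]; group
  have hsS : s ∈ (S : Subgroup G) := by
    rw [hs']
    exact mul_mem (inv_mem (hPS hπ)) (hKS w.2)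
  refine ⟨s, hs, ?_, ?_, ?_⟩
  · obtain ⟨j, hj⟩ := S.2 ⟨s, hsS⟩
    exact ⟨j, congrArg Subtype.val hj⟩
  · intro h
    apply hwP
    rw [Subgroup.mem_subgroupOf, ← hπs]
    exact P.mul_mem hπ h
  · rw [hs']
    exact mul_mem (inv_mem (Subgroup.le_normalizer hπ)) hwN

theorem le_st {Y : Subgroup G} (hY : ∀ x : Ω, Y ≤ stabilizer G x) {k : ℕ} (x : Fin k → Ω) : Y ≤ st G x := by
  intro y hy
  rw [mem_stabilizer_iff]
  funext i
  exact hY (x i) hy

theorem st_le {k : ℕ} (x : Fin k → Ω) (i : Fin k) : st G x ≤ stabilizer G (x i) := by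
  intro g hg
  rw [mem_stabilizer_iff] at hg ⊢
  exact congrFun hg i

theorem pgroup_st {p : ℕ} (hΩ : PSet p G Ω) {k : ℕ} (x : Fin (k + 1) → Ω) : IsPGroup p (st G x) :=
  (hΩ.pgroup (x 0)).to_le (st_le x 0)

end

/-- the statement of the induction -/
def Goal (p : ℕ) (D : Type w) [AddCommGroup D] (m : ℕ) : Prop :=
  ∀ (G : Type u) (Ω : Type v) [Group G] [MulAction G Ω] [DistribMulAction G D] [Finite G] [Finite Ω]
    (Y C : Subgroup G) [Y.Normal] [C.Normal], PSet p G Ω → (∀ x : Ω, Y ≤ stabilizer G x) →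
    (∀ c ∈ C, ∀ d : D, c • d = d) → (∃ u ∈ C, (∃ k : ℕ, u ^ (p ^ k) = 1) ∧ u ∉ Y) →
    Nat.card G - Nat.card Y < m → ∀ n, Van G Ω D {Y} n

section

variable {G : Type u} [Group G] {Ω : Type v} [MulAction G Ω] {D : Type w} [AddCommGroup D]
  [DistribMulAction G D]

/-- the part outside of `{Y}` -/
theorem van_above {p : ℕ} [Fact p.Prime] [Finite G] [Finite Ω] (hΩ : PSet p G Ω)
    (Y C : Subgroup G) [hYn : Y.Normal] [C.Normal] (hY : ∀ x : Ω, Y ≤ stabilizer G x)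
    (hC : ∀ c ∈ C, ∀ d : D, c • d = d) (hu : ∃ u ∈ C, (∃ k : ℕ, u ^ (p ^ k) = 1) ∧ u ∉ Y)
    (IH : Goal.{u, v, w} p D (Nat.card G - Nat.card Y))
    {V : Set (Subgroup G)} (hV : V.OrdConnected) (hVi : IsInv V)
    (hVC : ∀ P ∈ V, IsPGroup p P → Y ≤ P → ¬ P ≤ Y ∧ P ⊓ C ≤ Y) (n : ℕ) : Van G Ω D V n := by
  set V' : Set (Subgroup G) := {P | P ∈ V ∧ Y ≤ P ∧ IsPGroup p P} with hV'
  have hV'c : V'.OrdConnected :=
    ⟨fun P hP Q hQ R hR => ⟨hV.out hP.1 hQ.1 hR, hP.2.1.trans hR.1, hQ.2.2.to_le hR.2⟩⟩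
  have hV'i : IsInv V' := fun g P hP =>
    ⟨hVi g P hP.1, by rw [← cj_normal (g := g) (Y := Y)]; exact Subgroup.map_mono hP.2.1, pgroup_cj hP.2.2⟩
  have hcongr : ∀ (k : ℕ) (x : Fin (k + 1) → Ω), st G x ∈ V' ↔ st G x ∈ V := fun k x =>
    ⟨fun h => h.1, fun h => ⟨h, le_st hY x, pgroup_st hΩ x⟩⟩
  refine van_congr hcongr ?_
  refine van_of_filt hV'c hV'i (fun P => Nat.card P) (fun P _ Q _ h => Subgroup.card_le_of_le h)
    (fun g P _ => card_cj g P) n fun i => ?_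
  refine van_of_local (p := p) hΩ (V := {P | P ∈ V' ∧ Nat.card P = i})
    (fun g P hP => ⟨hV'i g P hP.1, by rw [card_cj]; exact hP.2⟩) (fun P => P) (fun P _ => le_rfl) (fun _ _ _ => rfl)
    (fun P hP Q hQ h => Subgroup.eq_of_le_of_card_ge h (by rw [hP.2, hQ.2])) n fun P hP => ?_
  have hset : {Q : Subgroup ↥(Nz P) | Q.map (Nz P).subtype ∈ {P | P ∈ V' ∧ Nat.card P = i} ∧
      Q.map (Nz P).subtype = P} = {P.subgroupOf (Nz P)} := by
    ext Q
    constructor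
    · rintro ⟨-, h⟩
      have h2 := Subgroup.comap_map_eq_self_of_injective (Nz P).subtype_injective Q
      rw [h] at h2
      exact h2.symm
    · rintro rfl
      have h : (P.subgroupOf (Nz P)).map (Nz P).subtype = P := by
        rw [Subgroup.subgroupOf_map_subtype, inf_eq_left]
        exact Subgroup.le_normalizer
      exact ⟨by rw [h]; exact hP, h⟩
  rw [hset]
  obtain ⟨hPV, hYP, hPp⟩ := hP.1
  obtain ⟨h1, h2⟩ := hVC P hPV hPp hYP
  obtain ⟨s, hsC, hsp, hsP, hsN⟩ := exists_elt hPp h2 hu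
  refine IH ↥(Nz P) (FixPt P Ω) (P.subgroupOf (Nz P)) (C.subgroupOf (Nz P)) (pset_fixPt hΩ P hPp) ?_ ?_ ?_ ?_ n
  · intro x y hy
    exact Subtype.ext (x.2 (Subgroup.mem_subgroupOf.1 hy))
  · intro c hc d
    exact hC c (Subgroup.mem_subgroupOf.1 hc) d
  · obtain ⟨k, hk⟩ := hsp
    exact ⟨⟨s, hsN⟩, hsC, ⟨k, Subtype.ext hk⟩, fun h => hsP (Subgroup.mem_subgroupOf.1 h)⟩
  · have e1 : Nat.card (P.subgroupOf (Nz P)) = Nat.card P :=
      Nat.card_congr (Subgroup.subgroupOfEquivOfLe Subgroup.le_normalizer).toEquiv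
    have e2 : Nat.card ↥(Nz P) ≤ Nat.card G := Subgroup.card_le_card_group _
    have e3 : Nat.card P ≤ Nat.card G := Subgroup.card_le_card_group _
    have e4 : Nat.card Y < Nat.card P := by
      refine lt_of_le_of_ne (Subgroup.card_le_of_le hYP) fun h => h1 ?_
      rw [Subgroup.eq_of_le_of_card_ge hYP h.ge]
    rw [e1]
    omega

/-- the bottom piece -/
theorem van_bot {p : ℕ} [Fact p.Prime] [Finite G] [Finite Ω] [Finite D] (hΩ : PSet p G Ω)
    (hD : IsPTors p D) (Y C : Subgroup G) [hYn : Y.Normal] [hCn : C.Normal] (hY : ∀ x : Ω, Y ≤ stabilizer G x)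
    (hC : ∀ c ∈ C, ∀ d : D, c • d = d) (hu : ∃ u ∈ C, (∃ k : ℕ, u ^ (p ^ k) = 1) ∧ u ∉ Y)
    (IH : Goal.{u, v, w} p D (Nat.card G - Nat.card Y)) (n : ℕ) : Van G Ω D {Y} n := by
  match n with
  | 0 =>
    intro c h1 h2 x
    by_contra hne
    have hx : st G x = Y := by
      by_contra h
      exact hne (h1.supp x h)
    obtain ⟨u, -, ⟨k, huk⟩, huY⟩ := hu
    have hzp : IsPGroup p (Subgroup.zpowers u) := by
      rintro ⟨x, i, rfl⟩
      refine ⟨k, Subtype.ext ?_⟩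
      change (u ^ i) ^ p ^ k = 1
      rw [← zpow_natCast, ← zpow_mul, mul_comm, zpow_mul, zpow_natCast, huk, one_zpow]
    obtain ⟨y, hy⟩ := hΩ.exists_fix _ hzp
    have hy0 : c (fun _ => y) = 0 := by
      refine h1.supp _ fun h => huY ?_
      rw [← Set.mem_singleton_iff.1 h]
      rw [mem_stabilizer_iff]
      funext i
      exact hy (Subgroup.mem_zpowers u)
    let z : Fin 2 → Ω := ![x 0, y]
    have hz : st G z ∈ ({Y} : Set (Subgroup G)) := by
      refine le_antisymm ?_ (le_st hY z)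
      intro g hg
      rw [← hx, mem_stabilizer_iff]
      funext i
      have h3 : g • z 0 = z 0 := congrFun (mem_stabilizer_iff.1 hg) 0
      have h4 : i = 0 := Subsingleton.elim _ _
      subst h4
      exact h3
    have h3 := h2 z hz
    rw [dd, Fin.sum_univ_two] at h3
    have e0 : (fun j : Fin 1 => z ((0 : Fin 2).succAbove j)) = fun _ => y := by
      funext j
      have : j = 0 := Subsingleton.elim _ _
      subst this
      rfl
    have e1 : (fun j : Fin 1 => z ((1 : Fin 2).succAbove j)) = x := by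
      funext j
      have : j = 0 := Subsingleton.elim _ _
      subst this
      rfl
    rw [e0, e1, hy0] at h3
    apply hne
    simpa using h3
  | n + 1 =>
    set 𝒜 : Set (Subgroup G) := {A | A ≤ C ∧ IsPGroup p A ∧ ¬ A ≤ Y} with h𝒜
    have hi : IsInv 𝒜 := fun g A hA =>
      ⟨by rw [← cj_normal (g := g) (Y := C)]; exact Subgroup.map_mono hA.1, pgroup_cj hA.2.1, fun h => hA.2.2 (by
        rw [cj_le_iff', cj_normal] at h; exact h)⟩
    have hg : ∀ A ∈ 𝒜, NGood p D A := by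
      intro A hA M _ _ z _ _ a ha _
      rw [Finset.sum_congr rfl (fun i _ => hC (a ^ i) (pow_mem (hA.1 ha) i) z), Finset.sum_const, Finset.card_range]
    set R₀ : Set (Subgroup G) := {P | ∀ A ∈ 𝒜, ¬ A ≤ P} with hR₀
    have hR : Van G Ω D R₀ (n + 1) := van_R0 hΩ hD 𝒜 hi (fun A hA => hA.2.1) hg n
    have hRlow : ∀ P ∈ R₀, ∀ Q : Subgroup G, Q ≤ P → Q ∈ R₀ := fun P hP Q hQ A hA h => hP A hA (h.trans hQ)
    have hRc : R₀.OrdConnected := ⟨fun P _ Q hQ R hR => hRlow Q hQ R hR.2⟩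
    have hRi : IsInv R₀ := fun g P hP A hA h => hP _ (hi g⁻¹ A hA) (cj_le_iff.1 h)
    set U : Set (Subgroup G) := {P | ¬ P ≤ Y} with hU
    have hUu : IsUpperSet U := fun P Q hPQ hP h => hP (hPQ.trans h)
    have hUi : IsInv U := fun g P hP h => hP (by
      rw [cj_le_iff', cj_normal] at h; exact h)
    have hRU : Van G Ω D (R₀ ∩ U) n := by
      refine van_above hΩ Y C hY hC hu IH (hRc.inter hUu.ordConnected)
        (fun g P hP => ⟨hRi g P hP.1, hUi g P hP.2⟩) ?_ n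
      rintro P ⟨hP, hPU⟩ hPp -
      refine ⟨hPU, ?_⟩
      by_contra h
      exact hP (P ⊓ C) ⟨inf_le_right, hPp.to_le inf_le_left, h⟩ inf_le_left
    have h2 := van_two2 hRc hRi hUu hUi hR hRU
    refine van_congr (fun k x => ?_) h2
    rw [Set.mem_singleton_iff]
    constructor
    · rintro ⟨-, h⟩
      exact le_antisymm (not_not.1 h) (le_st hY x)
    · intro h
      rw [h]
      exact ⟨fun A hA hAY => hA.2.2 hAY, fun h' => h' le_rfl⟩

end

/-- the induction -/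
theorem goal {p : ℕ} [Fact p.Prime] {D : Type w} [AddCommGroup D] [Finite D] (hD : IsPTors p D) (m : ℕ) :
    Goal.{u, v, w} p D m := by
  induction m with
  | zero =>
    intro G Ω _ _ _ _ _ Y C _ _ _ _ _ _ h
    exact absurd h (Nat.not_lt_zero _)
  | succ m ih =>
    intro G Ω _ _ _ _ _ Y C _ _ hΩ hY hC hu hm n
    refine van_bot hΩ hD Y C hY hC hu ?_ n
    intro G' Ω' _ _ _ _ _ Y' C' _ _ hΩ' hY' hC' hu' hm' n'
    exact ih G' Ω' Y' C' hΩ' hY' hC' hu' (by omega) n'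

/-- **Piece Z.** -/
theorem van_disjoint {G : Type u} [Group G] {Ω : Type v} [MulAction G Ω] {D : Type w} [AddCommGroup D]
    [DistribMulAction G D] {p : ℕ} [Fact p.Prime] [Finite G] [Finite Ω] [Finite D] (hΩ : PSet p G Ω)
    (hD : IsPTors p D) (Y C : Subgroup G) [Y.Normal] [C.Normal] (hY : ∀ x : Ω, Y ≤ stabilizer G x)
    (hC : ∀ c ∈ C, ∀ d : D, c • d = d) (hu : ∃ u ∈ C, (∃ k : ℕ, u ^ (p ^ k) = 1) ∧ u ∉ Y)
    {V : Set (Subgroup G)} (hV : V.OrdConnected) (hVi : IsInv V) (hVC : ∀ P ∈ V, P ⊓ C ≤ Y) (n : ℕ) :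
    Van G Ω D V n := by
  set U : Set (Subgroup G) := {P | ¬ P ≤ Y} with hU
  have hUu : IsUpperSet U := fun P Q hPQ hP h => hP (hPQ.trans h)
  have hUi : IsInv U := fun g P hP h => hP (by
    rw [cj_le_iff', cj_normal] at h; exact h)
  refine van_two1 hV hVi hUu hUi ?_ ?_
  · by_cases hYV : Y ∈ V
    · refine van_congr (fun k x => ?_) (goal hD _ G Ω Y C hΩ hY hC hu (Nat.lt_succ_self _) n)
      rw [Set.mem_singleton_iff]
      constructor
      · intro h
        rw [h]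
        exact ⟨hYV, fun h' => h' le_rfl⟩
      · rintro ⟨-, h⟩
        exact le_antisymm (not_not.1 h) (le_st hY x)
    · refine van_of_none (fun k x => ?_) n
      rintro ⟨h1, h⟩
      rw [le_antisymm (not_not.1 h) (le_st hY x)] at h1
      exact hYV h1
  · exact van_above hΩ Y C hY hC hu (goal hD _) (hV.inter hUu.ordConnected)
      (fun g P hP => ⟨hVi g P hP.1, hUi g P hP.2⟩) (fun P hP _ _ => ⟨hP.2, hVC P hP.1⟩) n

end Cfsg.Agent.H486.Lim
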